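import Cfsg.Agent.H952.RcOrth

/-!
# Orthogonal groups: a nondegenerate subspace for a field automorphism (helper880, for S3830)
-/

set_option autoImplicit false
set_option linter.unusedSectionVars false

namespace Cfsg.Agent.H880.Inv

open QuadraticMap
open Cfsg.Agent.BpCl (Semi SemiIso)
open Cfsg.Agent.LieClassical.OrthCore Module

universe u v

variable {F : Type u} {V : Type v} [Field F] [AddCommGroup V] [Module F V] {Q : QuadraticForm F V}

/-- the dimension of the orthogonal complement -/
theorem orth_finrank [FiniteDimensional F V] (hQ : Nondeg Q) (A : Submodule F V) :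
    finrank F A + finrank F (LinearMap.BilinForm.orthogonal (polarBilin Q) A) = finrank F V := by
  have hrefl := Cfsg.Agent.H952.Rc.polarBilin_refl Q
  have h1 := LinearMap.BilinForm.finrank_add_finrank_orthogonal hrefl A
  have h2 : LinearMap.BilinForm.orthogonal (polarBilin Q) (⊤ : Submodule F V) = ⊥ := by
    rw [eq_bot_iff]
    intro v hv
    rw [Submodule.mem_bot]
    apply hQ
    intro y
    rw [polar_comm]
    exact hv y Submodule.mem_top
  rw [h2, inf_bot_eq, finrank_bot, add_zero] at h1
  exact h1

theorem exists_A_field [Finite F] [FiniteDimensional F V] (h20 : (2 : F) ≠ 0) (hQ : Nondeg Q)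
    (hd : 7 ≤ finrank F V) {p : ℕ} [hp : Fact p.Prime] (_h5 : 5 ≤ p) {g : Equiv.Perm V} {φ : F ≃+* F}
    (hg : SemiIso (fun u _ => Q u) φ 1 g) (hgp : g ^ p = 1) (hφ : ∀ a, φ^[p] a = a)
    (hφ1 : φ ≠ RingEquiv.refl F) :
    ∃ A : Submodule F V, A ≠ ⊥ ∧ (∀ v ∈ A, g v ∈ A) ∧
      IsCompl A (LinearMap.BilinForm.orthogonal (polarBilin Q) A) ∧
      Odd (finrank F (LinearMap.BilinForm.orthogonal (polarBilin Q) A)) ∧
      5 ≤ finrank F (LinearMap.BilinForm.orthogonal (polarBilin Q) A) ∧
      ∃ v ∈ LinearMap.BilinForm.orthogonal (polarBilin Q) A, g v ≠ v := by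
  have hrefl := Cfsg.Agent.H952.Rc.polarBilin_refl Q
  have hQg : ∀ u, Q (g u) = φ (Q u) := fun u => by
    have := hg.form u u
    rwa [one_mul] at this
  have hpol : ∀ u v, polar Q (g u) (g v) = φ (polar Q u v) := by
    intro u v
    unfold polar
    rw [← hg.add, hQg, hQg, hQg, map_sub, map_sub]
  have hself : ∀ v, polar Q v v = 2 * Q v := fun v => polar_self' v
  have hspan := Cfsg.Agent.BpCl.span_U hg.toSemi hp.out hgp hφ hφ1
  have hind := fun {P : V → Prop} => Cfsg.Agent.BpCl.induction_U hg.toSemi hspan (P := P)
  -- two polarity vanishing principles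
  have hzero : ∀ v, (∀ u, g u = u → polar Q v u = 0) → v = 0 := by
    intro v hv
    apply hQ
    intro y
    refine hind (P := fun y => polar Q v y = 0) (fun u hu => hv u hu) (fun u w hu hw => ?_) (fun a u hu => ?_) y
    · rw [polar_add_right, hu, hw, add_zero]
    · rw [polar_smul_right, hu, smul_zero]
  have hne : ∃ v : V, v ≠ 0 := by
    have : Nontrivial V := Module.nontrivial_of_finrank_pos (R := F) (by omega)
    exact exists_ne 0
  obtain ⟨c, hc, hQc⟩ : ∃ c, g c = c ∧ Q c ≠ 0 := by
    by_contra hcon
    push Not at hcon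
    obtain ⟨v, hv⟩ := hne
    apply hv
    have h1 : ∀ u w, g u = u → g w = w → polar Q u w = 0 := by
      intro u w hu hw
      unfold polar
      rw [hcon (u + w) (by rw [hg.add, hu, hw]), hcon u hu, hcon w hw, sub_zero, sub_zero]
    refine hind (P := fun v => v = 0) (fun u hu => hzero u fun w hw => h1 u w hu hw) (fun u w hu hw => ?_)
      (fun a u hu => ?_) v
    · rw [hu, hw, add_zero]
    · rw [hu, smul_zero]
  have hcc : polar Q c c ≠ 0 := by
    rw [hself]
    exact mul_ne_zero h20 hQc
  -- the moved vector
  have hmove : ∀ A : Submodule F V, 5 ≤ finrank F (LinearMap.BilinForm.orthogonal (polarBilin Q) A) →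
      ∃ v ∈ LinearMap.BilinForm.orthogonal (polarBilin Q) A, g v ≠ v := by
    intro A hA
    by_contra hcon
    push Not at hcon
    have hne : LinearMap.BilinForm.orthogonal (polarBilin Q) A ≠ ⊥ := by
      intro h
      rw [h, finrank_bot] at hA
      omega
    obtain ⟨v, hv, hv0⟩ := Submodule.exists_mem_ne_zero_of_ne_bot hne
    apply hφ1
    ext a
    have h1 := hcon (a • v) (Submodule.smul_mem _ a hv)
    rw [hg.smul, hcon v hv, ← sub_eq_zero, ← sub_smul] at h1
    rcases smul_eq_zero.1 h1 with h2 | h2
    · exact sub_eq_zero.1 h2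
    · exact absurd h2 hv0
  rcases Nat.even_or_odd (finrank F V) with hev | hod
  · -- the even case
    have hc0 : c ≠ 0 := by
      rintro rfl
      exact hQc (QuadraticMap.map_zero Q)
    have h1 := orth_finrank hQ (Submodule.span F {c})
    rw [finrank_span_singleton hc0] at h1
    refine ⟨Submodule.span F {c}, ?_, ?_, ?_, ?_, ?_, hmove _ ?_⟩
    · rw [Ne, Submodule.span_singleton_eq_bot]
      exact hc0
    · intro v hv
      obtain ⟨a, rfl⟩ := Submodule.mem_span_singleton.1 hv
      rw [hg.smul, hc]
      exact Submodule.smul_mem _ _ (Submodule.mem_span_singleton_self c)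
    · refine (LinearMap.BilinForm.isCompl_orthogonal_iff_disjoint hrefl).2 ?_
      rw [Submodule.disjoint_def]
      intro v hv hv'
      obtain ⟨a, rfl⟩ := Submodule.mem_span_singleton.1 hv
      have h2 : polar Q c (a • c) = 0 := hv' c (Submodule.mem_span_singleton_self c)
      rw [polar_smul_right, smul_eq_mul] at h2
      rcases mul_eq_zero.1 h2 with h3 | h3
      · rw [h3, zero_smul]
      · exact absurd h3 hcc
    · rw [Nat.even_iff] at hev
      rw [Nat.odd_iff]
      omega
    · omega
    · omega
  · -- the odd case: a plane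
    obtain ⟨c2, hc2, hcc2, hQc2⟩ : ∃ c2, g c2 = c2 ∧ polar Q c c2 = 0 ∧ Q c2 ≠ 0 := by
      by_contra hcon
      push Not at hcon
      have h1 : ∀ u w, g u = u → g w = w → polar Q c u = 0 → polar Q c w = 0 → polar Q u w = 0 := by
        intro u w hu hw hcu hcw
        unfold polar
        rw [hcon (u + w) (by rw [hg.add, hu, hw]) (by rw [polar_add_right, hcu, hcw, add_zero]), hcon u hu hcu,
          hcon w hw hcw, sub_zero, sub_zero]
      -- the projection
      have hpr : ∀ u, g u = u → g (u - (polar Q c u / polar Q c c) • c) = u - (polar Q c u / polar Q c c) • c ∧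
          polar Q c (u - (polar Q c u / polar Q c c) • c) = 0 := by
        intro u hu
        have h2 : ∀ a b : V, g (a - b) = g a - g b := by
          intro a b
          have := hg.add (a - b) b
          rw [sub_add_cancel] at this
          rw [this, add_sub_cancel_right]
        refine ⟨?_, ?_⟩
        · rw [h2, hg.smul, hu, hc, map_div₀, ← hpol, ← hpol, hc, hu]
        · rw [sub_eq_add_neg, polar_add_right, polar_neg_right, polar_smul_right, smul_eq_mul,
            div_mul_cancel₀ _ hcc, add_neg_cancel]
      have h3 : ∀ u, g u = u → polar Q c u = 0 → u = 0 := by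
        intro u hu hcu
        apply hzero
        intro w hw
        obtain ⟨h4, h5⟩ := hpr w hw
        have h6 := h1 u _ hu h4 hcu h5
        have huc : polar Q u c = 0 := by rw [polar_comm]; exact hcu
        rw [sub_eq_add_neg, polar_add_right, polar_neg_right, polar_smul_right, huc, smul_zero, neg_zero, add_zero]
          at h6
        exact h6
      have h4 : ∀ v : V, v ∈ Submodule.span F {c} := by
        intro v
        refine hind (P := fun v => v ∈ Submodule.span F {c}) (fun u hu => ?_) (fun u w hu hw => Submodule.add_mem _ hu hw)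
          (fun a u hu => Submodule.smul_mem _ a hu) v
        obtain ⟨h5, h6⟩ := hpr u hu
        have h7 := sub_eq_zero.1 (h3 _ h5 h6)
        rw [h7]
        exact Submodule.smul_mem _ _ (Submodule.mem_span_singleton_self c)
      have h5 : (Submodule.span F {c} : Submodule F V) = ⊤ := by
        rw [eq_top_iff]
        intro v _
        exact h4 v
      have h6 := finrank_span_le_card (R := F) ({c} : Set V)
      rw [h5, finrank_top] at h6
      simp at h6
      omega
    have hc22 : polar Q c2 c2 ≠ 0 := by
      rw [hself]
      exact mul_ne_zero h20 hQc2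
    have hmem : ∀ v, v ∈ Submodule.span F {c, c2} ↔ ∃ a b : F, a • c + b • c2 = v :=
      fun v => Submodule.mem_span_pair
    have hc2c : polar Q c2 c = 0 := by rw [polar_comm]; exact hcc2
    have hindep : LinearIndependent F ![c, c2] := by
      rw [LinearIndependent.pair_iff]
      intro s t hst
      have h2 : polar Q c (s • c + t • c2) = 0 := by rw [hst, polar_zero_right]
      have h3 : polar Q c2 (s • c + t • c2) = 0 := by rw [hst, polar_zero_right]
      rw [polar_add_right, polar_smul_right, polar_smul_right, hcc2, smul_zero, add_zero, smul_eq_mul] at h2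
      rw [polar_add_right, polar_smul_right, polar_smul_right, hc2c, smul_zero, zero_add, smul_eq_mul] at h3
      exact ⟨(mul_eq_zero.1 h2).resolve_right hcc, (mul_eq_zero.1 h3).resolve_right hc22⟩
    have hfr : finrank F (Submodule.span F {c, c2} : Submodule F V) = 2 := by
      have hr : Set.range ![c, c2] = {c, c2} := by
        rw [Matrix.range_cons, Matrix.range_cons, Matrix.range_empty, Set.union_empty]
        rfl
      rw [← hr, finrank_span_eq_card hindep]
      rfl
    have h1 := orth_finrank hQ (Submodule.span F {c, c2})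
    rw [hfr] at h1
    refine ⟨Submodule.span F {c, c2}, ?_, ?_, ?_, ?_, ?_, hmove _ ?_⟩
    · intro h
      rw [h, finrank_bot] at hfr
      omega
    · intro v hv
      obtain ⟨a, b, rfl⟩ := (hmem v).1 hv
      rw [hg.add, hg.smul, hg.smul, hc, hc2]
      exact (hmem _).2 ⟨_, _, rfl⟩
    · refine (LinearMap.BilinForm.isCompl_orthogonal_iff_disjoint hrefl).2 ?_
      rw [Submodule.disjoint_def]
      intro v hv hv'
      obtain ⟨s, t, rfl⟩ := (hmem v).1 hv
      have h2 : polar Q c (s • c + t • c2) = 0 := hv' c (Submodule.subset_span (by simp))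
      have h3 : polar Q c2 (s • c + t • c2) = 0 := hv' c2 (Submodule.subset_span (by simp))
      rw [polar_add_right, polar_smul_right, polar_smul_right, hcc2, smul_zero, add_zero, smul_eq_mul] at h2
      rw [polar_add_right, polar_smul_right, polar_smul_right, hc2c, smul_zero, zero_add, smul_eq_mul] at h3
      rw [(mul_eq_zero.1 h2).resolve_right hcc, (mul_eq_zero.1 h3).resolve_right hc22, zero_smul, zero_smul, add_zero]
    · rw [Nat.odd_iff] at hod ⊢
      omega
    · omega
    · omega

end Cfsg.Agent.H880.Inv
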