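import Cfsg.Agent.H880.Inv.Nondeg
import Cfsg.Agent.H880.ClPsuF

/-!
# S3830, the row `PSU_n(q)`, `q` even: irreducible automorphisms of order `p ∣ q + 1` (for helper459)

* `exists_mono` : `A ∈ GU_n(q)` with `A ^ p` scalar, `p ∣ q + 1`, is conjugate to a monomial matrix;
* `cycle_of_irr` : if it is irreducible, the permutation is a cycle of length `n = p`;
* `ns_of_mono` : if the permutation `π` of `A` and a transposition generate a non-solvable group, `NS (toAut A 1)`
  (`q` even);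
* `ns_kummer` : `NS (toAut A 1)` for `A` irreducible, `q` even.
-/

set_option autoImplicit false
set_option linter.unusedSectionVars false

namespace Cfsg.Agent.H880.Inv

open Matrix Subgroup Module Cfsg Cfsg.Agent.H459.Rad Cfsg.Agent.H459.Iface Cfsg.Agent.H459.Inv Cfsg.Agent.H880.Cl
open Cfsg.Agent.LieClassical.HermBasic Cfsg.Agent.LieClassical.HermSiegel
open Cfsg.Agent.ClassicalGeometry.PSUAutBasic Cfsg.Agent.ClassicalGeometry.HermOrtho
open Cfsg.Agent.ClassicalGeometry.PSUAutCount (toAut gm gm_mul gm_one gm_mul_inv gm_inv_mul semiConj guConj act_guConj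
  herm_gm gm_inv_mulVec gm_mulVec_inv herm_map gm_inj sc gm_sc_mul toAut_sc_mul eq_of_toAut_eq)

section Basic

variable {F : Type*} [Field F] [Fintype F] {q n : ℕ}

/-- transport of `NS` -/
theorem ns_of_gu_conj {A : GU n F q} (g : GU n F q)
    (h : NS (toAut (g⁻¹ * A * g) 1 : MulAut (PSU n F q))) : NS (toAut A 1 : MulAut (PSU n F q)) := by
  apply ns_of_conj (g := toAut g⁻¹ 1)
  have h3 : ((toAut g⁻¹ 1)⁻¹ : MulAut (PSU n F q)) = toAut g 1 := by
    rw [inv_eq_iff_mul_eq_one, toAut_mul_one, inv_mul_cancel, CpAutU.Desc.toAut_one]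
  rwa [h3, toAut_mul_one, toAut_mul_one]

/-- **Conjugation into the monomial group.** -/
theorem exists_mono (hF : Fintype.card F = q ^ 2) (hn : 1 ≤ n) {p : ℕ} [hp : Fact p.Prime] (hp2 : p ≠ 2)
    (hpq : p ∣ q + 1) {A : GU n F q} {c : F} (hA : gm A ^ p = c • (1 : Matrix (Fin n) (Fin n) F)) :
    ∃ (g : GU n F q) (π : Equiv.Perm (Fin n)), GMono (g⁻¹ * A * g) π ∧ π ^ p = 1 := by
  have hAp : gm (A ^ p) = c • (1 : Matrix (Fin n) (Fin n) F) := by rw [gm_pow, hA]
  have hc : c * c ^ q = 1 := by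
    have h1 := herm_gm (A ^ p) (Pi.single (⟨0, by omega⟩ : Fin n) 1) (Pi.single (⟨0, by omega⟩ : Fin n) 1)
    rw [hAp, smul_mulVec, one_mulVec, herm_smul_left, herm_smul_right, single_herm hF, if_pos rfl, mul_one] at h1
    exact h1
  have hcu : c ^ (q + 1) = 1 := by rw [pow_succ', hc]
  have hc0 : c ≠ 0 := by
    rintro rfl
    rw [zero_mul] at hc
    exact zero_ne_one hc
  let c' : rootsOfUnity (q + 1) F := ⟨Units.mk0 c hc0, by
    rw [mem_rootsOfUnity]
    apply Units.ext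
    rw [Units.val_pow_eq_pow_val, Units.val_mk0, hcu, Units.val_one]⟩
  have hAc : A ^ p = dlt n F q (fun _ => c') * rh n F q 1 := by
    rw [map_one, mul_one]
    apply ext_gm
    intro v
    rw [hAp, smul_mulVec, one_mulVec]
    funext i
    rw [dlt_mulVec, Pi.smul_apply, smul_eq_mul]
    rfl
  obtain ⟨g, a, π, hg⟩ := exists_conj_mem (MonG n F q) (not_dvd_index hF hp2 hpq) (x := A) (by
    intro g
    refine ⟨fun _ => c', 1, ?_⟩
    rw [← hAc]
    apply gm_inj
    rw [gm_mul, gm_mul, hAp, Matrix.mul_smul, Matrix.smul_mul, Matrix.mul_one, gm_inv_mul])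
  have hBm : GMono (g⁻¹ * A * g) π := by
    intro i
    rw [hg]
    exact ⟨_, mono_mulVec a π i⟩
  refine ⟨g, π, hBm, ?_⟩
  have hBp : (g⁻¹ * A * g) ^ p = A ^ p := by
    have h1 : (g⁻¹ * A * g) ^ p = g⁻¹ * A ^ p * g := by
      have h2 : g⁻¹ * A * g = g⁻¹ * A * (g⁻¹)⁻¹ := by rw [inv_inv]
      rw [h2, conj_pow, inv_inv]
    rw [h1]
    apply gm_inj
    rw [gm_mul, gm_mul, hAp, Matrix.mul_smul, Matrix.smul_mul, Matrix.mul_one, gm_inv_mul]
  ext1 i
  obtain ⟨b, hb⟩ := hBm.pow p i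
  rw [hBp, hAp, smul_mulVec, one_mulVec] at hb
  have h1 := single_smul_inj hb (smul_ne_zero hc0 (single_ne i))
  exact h1.symm

/-- conjugates of irreducible matrices -/
theorem irr_conj {A : GU n F q} (g : GU n F q)
    (hs : ∀ W : Submodule F (Fin n → F), (∀ w ∈ W, gm A *ᵥ w ∈ W) → W = ⊥ ∨ W = ⊤) :
    ∀ W : Submodule F (Fin n → F), (∀ w ∈ W, gm (g⁻¹ * A * g) *ᵥ w ∈ W) → W = ⊥ ∨ W = ⊤ := by
  intro W hW
  set f : (Fin n → F) →ₗ[F] (Fin n → F) := Matrix.mulVecLin (gm g) with hf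
  have hfw : ∀ w, f w = gm g *ᵥ w := fun w => rfl
  rcases hs (W.map f) (by
    rintro _ ⟨w, hw, rfl⟩
    refine ⟨gm (g⁻¹ * A * g) *ᵥ w, hW w hw, ?_⟩
    rw [hfw, hfw, gm_mul, gm_mul, ← mulVec_mulVec, ← mulVec_mulVec, gm_mulVec_inv]) with h | h
  · left
    rw [eq_bot_iff]
    intro w hw
    have h1 : f w ∈ W.map f := ⟨w, hw, rfl⟩
    rw [h, Submodule.mem_bot, hfw] at h1
    have h2 := gm_inv_mulVec g w
    rw [h1, mulVec_zero] at h2
    rw [Submodule.mem_bot, ← h2]
  · right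
    rw [eq_top_iff]
    intro w _
    have h1 : f w ∈ W.map f := by rw [h]; trivial
    obtain ⟨w', hw', he⟩ := h1
    rw [hfw, hfw] at he
    have h2 := congrArg (fun x => gm g⁻¹ *ᵥ x) he
    simp only [gm_inv_mulVec] at h2
    rwa [← h2]

/-- **The permutation of an irreducible monomial matrix of order `p` is a cycle of length `n = p`.** -/
theorem cycle_of_irr (hn : 2 ≤ n) {p : ℕ} (hp : p.Prime) {B : GU n F q} {π : Equiv.Perm (Fin n)}
    (hB : GMono B π) (hπ : π ^ p = 1)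
    (hs : ∀ W : Submodule F (Fin n → F), (∀ w ∈ W, gm B *ᵥ w ∈ W) → W = ⊥ ∨ W = ⊤) :
    n = p ∧ π.IsCycle ∧ π.support = Finset.univ := by
  classical
  have hcyc : ∀ i j, π.SameCycle i j := by
    intro i j
    let W : Submodule F (Fin n → F) := Submodule.span F {v | ∃ k, π.SameCycle i k ∧ v = Pi.single k 1}
    have hW : ∀ w ∈ W, gm B *ᵥ w ∈ W := by
      intro w hw
      induction hw using Submodule.span_induction with
      | mem v hv =>
        obtain ⟨k, hk, rfl⟩ := hv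
        obtain ⟨a, ha⟩ := hB k
        rw [ha]
        exact W.smul_mem _ (Submodule.subset_span ⟨π k, Equiv.Perm.sameCycle_apply_right.2 hk, rfl⟩)
      | zero => rw [mulVec_zero]; exact W.zero_mem
      | add v w _ _ hv hw => rw [mulVec_add]; exact W.add_mem hv hw
      | smul a v _ hv => rw [mulVec_smul]; exact W.smul_mem _ hv
    have hi : (Pi.single i 1 : Fin n → F) ∈ W := Submodule.subset_span ⟨i, Equiv.Perm.SameCycle.refl _ _, rfl⟩
    have hW0 : W ≠ ⊥ := by
      intro h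
      rw [h, Submodule.mem_bot] at hi
      exact single_ne i hi
    have hW1 := (hs W hW).resolve_left hW0
    by_contra hij
    have h1 : ∀ w ∈ W, w j = 0 := by
      intro w hw
      induction hw using Submodule.span_induction with
      | mem v hv =>
        obtain ⟨k, hk, rfl⟩ := hv
        rw [Pi.single_eq_of_ne]
        rintro rfl
        exact hij hk
      | zero => rfl
      | add v w _ _ hv hw => rw [Pi.add_apply, hv, hw, add_zero]
      | smul a v _ hv => rw [Pi.smul_apply, hv, smul_zero]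
    have h2 := h1 (Pi.single j 1) (by rw [hW1]; trivial)
    rw [Pi.single_eq_same] at h2
    exact one_ne_zero h2
  have hmove : ∀ i, π i ≠ i := by
    intro i hi
    obtain ⟨j, hj⟩ : ∃ j : Fin n, j ≠ i := by
      by_cases h0 : i = ⟨0, by omega⟩
      · exact ⟨⟨1, by omega⟩, by rw [h0]; simp⟩
      · exact ⟨⟨0, by omega⟩, fun h => h0 h.symm⟩
    obtain ⟨k, hk⟩ := hcyc i j
    rw [Equiv.Perm.zpow_apply_eq_self_of_apply_eq_self hi] at hk
    exact hj hk.symm
  have hcycle : π.IsCycle := ⟨⟨0, by omega⟩, hmove _, fun y _ => hcyc _ y⟩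
  have hsupp : π.support = Finset.univ := by
    ext i
    simp only [Equiv.Perm.mem_support, Finset.mem_univ, iff_true]
    exact hmove i
  refine ⟨?_, hcycle, hsupp⟩
  have h1 := hcycle.orderOf
  rw [hsupp, Finset.card_univ, Fintype.card_fin] at h1
  have h2 := orderOf_dvd_of_pow_eq_one hπ
  rw [h1] at h2
  rcases (Nat.dvd_prime hp).1 h2 with h3 | h3
  · omega
  · exact h3

/-- the action on the frame -/
theorem conj_smono {A : GU n F q} {π : Equiv.Perm (Fin n)} (hA : GMono A π) {g : SU n F q} {σ : Equiv.Perm (Fin n)}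
    (hg : SMono g σ) : SMono (guConj A g) (π * σ * π⁻¹) := by
  have hAinv : ∀ i, ∃ a : F, gm A⁻¹ *ᵥ Pi.single i 1 = a • Pi.single (π⁻¹ i) 1 := by
    intro i
    obtain ⟨a, ha⟩ := hA (π⁻¹ i)
    have hi : π (π⁻¹ i) = i := π.apply_symm_apply i
    rw [hi] at ha
    have h1 : gm A⁻¹ *ᵥ (a • (Pi.single i 1 : Fin n → F)) = Pi.single (π⁻¹ i) 1 := by rw [← ha, gm_inv_mulVec]
    have ha0 : a ≠ 0 := by
      rintro rfl
      rw [zero_smul, mulVec_zero] at h1
      exact single_ne _ h1.symm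
    rw [mulVec_smul] at h1
    exact ⟨a⁻¹, by rw [← h1, smul_smul, inv_mul_cancel₀ ha0, one_smul]⟩
  intro i
  obtain ⟨a, ha⟩ := hAinv i
  obtain ⟨b, hb⟩ := hg (π⁻¹ i)
  obtain ⟨c, hc⟩ := hA (σ (π⁻¹ i))
  refine ⟨a * (b * c), ?_⟩
  rw [act_guConj, ha, act_smul, hb, mulVec_smul, mulVec_smul, hc, smul_smul, smul_smul, mul_assoc a b c]
  rfl

/-- **Monomial automorphisms**, `Y ∈ SU` monomial of order two with permutation `σ`, `⟨π, σ⟩` not solvable. -/
theorem ns_of_mono (hF : Fintype.card F = q ^ 2) (hn : 3 ≤ n) {A : GU n F q} {π : Equiv.Perm (Fin n)}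
    (hA : GMono A π) {Y : SU n F q} (hY : Y ^ 2 = 1) {σ : Equiv.Perm (Fin n)} (hYσ : SMono Y σ) (hσ : σ ≠ 1)
    (hns : ¬ Group.IsSolvable ↥(closure ({π, σ} : Set (Equiv.Perm (Fin n))))) :
    NS (toAut A 1 : MulAut (PSU n F q)) := by
  have hM : ∀ m ∈ Mon n F q, toAut A 1 m ∈ Mon n F q := by
    rintro _ ⟨τ, g, rfl, hg⟩
    exact ⟨_, guConj A g, rfl, conj_smono hA hg⟩
  have hmem : pr n F q Y ∈ Mon n F q := ⟨σ, Y, rfl, hYσ⟩
  have hth : theta hF hn ⟨pr n F q Y, hmem⟩ = σ := theta_eq hF hn ⟨Y, rfl, hYσ⟩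
  refine ns_of_hom hM (theta hF hn) (MulAut.conj π) ?_ (y := ⟨pr n F q Y, hmem⟩) ?_ ?_
  · intro x
    obtain ⟨g, hg, hgm⟩ := theta_spec hF hn x
    rw [MulAut.conj_apply]
    apply theta_eq hF
    refine ⟨guConj A g, ?_, conj_smono hA hgm⟩
    show pr n F q (guConj A g) = toAut A 1 x.1
    rw [← hg]
    rfl
  · have : Fact (Nat.Prime 2) := ⟨Nat.prime_two⟩
    apply orderOf_eq_prime
    · apply Subtype.ext
      show (pr n F q Y) ^ 2 = 1
      rw [← map_pow, hY, map_one]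
    · intro h
      rw [h, map_one] at hth
      exact hσ hth.symm
  · rw [hth, ← solvable_iff, solvable_inner_iff]
    exact hns

end Basic

/-- **Irreducible automorphisms of order `p ∣ q + 1`, `q` even.** -/
theorem ns_kummer {F : Type*} [Field F] [Fintype F] [CharP F 2] {q n : ℕ} (hF : Fintype.card F = q ^ 2) (hn : 3 ≤ n)
    {p : ℕ} [hp : Fact p.Prime] (hp5 : 5 ≤ p) (hpq : p ∣ q + 1) {A : GU n F q} {c : F}
    (hA : gm A ^ p = c • (1 : Matrix (Fin n) (Fin n) F))
    (hs : ∀ W : Submodule F (Fin n → F), (∀ w ∈ W, gm A *ᵥ w ∈ W) → W = ⊥ ∨ W = ⊤) :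
    NS (toAut A 1 : MulAut (PSU n F q)) := by
  classical
  obtain ⟨g, π, hBm, hπp⟩ := exists_mono hF (by omega) (by omega : p ≠ 2) hpq hA
  apply ns_of_gu_conj g
  have hB := irr_conj g hs
  set B := g⁻¹ * A * g with hBdef
  obtain ⟨hnp, hcyc, hsupp⟩ := cycle_of_irr (by omega) hp.out hBm hπp hB
  -- the transposition
  let i0 : Fin n := ⟨0, by omega⟩
  let i1 : Fin n := ⟨1, by omega⟩
  have h01 : i0 ≠ i1 := by simp [i0, i1]
  set σ : Equiv.Perm (Fin n) := Equiv.swap i0 i1 with hσ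
  have hσi : σ⁻¹ = σ := Equiv.swap_inv _ _
  have hdet : (σ.permMatrix F).det = 1 := by
    rw [det_permutation, hσ, Equiv.Perm.sign_swap h01]
    have h2 : (2 : F) = 0 := CharTwo.two_eq_zero
    show (((-1 : ℤˣ) : ℤ) : F) = 1
    push_cast
    linear_combination -h2
  have hMv : ∀ (v : Fin n → F) i, (σ.permMatrix F *ᵥ v) i = v (σ i) := by
    intro v i
    rw [Matrix.permMatrix_mulVec]
    rfl
  have hM : ∀ u v, hermForm n F q (σ.permMatrix F *ᵥ u) (σ.permMatrix F *ᵥ v) = hermForm n F q u v := by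
    intro u v
    rw [herm_def, herm_def, ← Equiv.sum_comp σ (fun i => u i * v i ^ q)]
    refine Finset.sum_congr rfl fun i _ => ?_
    rw [hMv, hMv]
  let Y : SU n F q := mkSU (σ.permMatrix F) hdet hM
  have hYv : ∀ (v : Fin n → F) i, act Y v i = v (σ i) := by
    intro v i
    rw [act_def]
    show (mat (mkSU (σ.permMatrix F) hdet hM) *ᵥ v) i = _
    rw [mat_mkSU]
    exact hMv v i
  have hY2 : Y ^ 2 = 1 := by
    apply ext_act
    intro v
    funext i
    rw [pow_two, act_mul, hYv, hYv, act_one, hσ, Equiv.swap_apply_self]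
  have hYσ : SMono Y σ := by
    intro i
    refine ⟨1, ?_⟩
    rw [one_smul]
    funext j
    rw [hYv]
    by_cases h : σ j = i
    · have h1 : j = σ i := by rw [← h, hσ, Equiv.swap_apply_self]
      rw [h, Pi.single_eq_same, h1, Pi.single_eq_same]
    · have h1 : j ≠ σ i := fun h1 => h (by rw [h1, hσ, Equiv.swap_apply_self])
      rw [Pi.single_eq_of_ne h, Pi.single_eq_of_ne h1]
  have hσ1 : σ ≠ 1 := by
    intro h
    have h1 := congrArg (fun τ : Equiv.Perm (Fin n) => τ i0) h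
    simp only [hσ, Equiv.swap_apply_left, Equiv.Perm.coe_one, id_eq] at h1
    exact h01 h1.symm
  refine ns_of_mono hF hn hBm hY2 hYσ hσ1 ?_
  have htop : closure ({π, σ} : Set (Equiv.Perm (Fin n))) = ⊤ := by
    apply Equiv.Perm.closure_prime_cycle_swap _ hcyc hsupp ⟨i0, i1, h01, hσ⟩
    rw [Fintype.card_fin, hnp]
    exact hp.out
  rw [htop]
  intro h
  have h1 : Group.IsSolvable (Equiv.Perm (Fin n)) :=
    Group.isSolvable_of_surjective (f := (Subgroup.topEquiv : (⊤ : Subgroup (Equiv.Perm (Fin n))) ≃* _).toMonoidHom)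
      Subgroup.topEquiv.surjective
  exact Equiv.Perm.not_isSolvable (Fin n) (by
    rw [Cardinal.mk_fin]
    exact_mod_cast (by omega : 5 ≤ n)) h1

end Cfsg.Agent.H880.Inv
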