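import Cfsg.Agent.H880.Inv.Irr
import Cfsg.Agent.H880.Inv.Kum

/-!
# S3830, the row `PSU_n(q)`, `n ≥ 3`, `q` even, without invariant `2`-subgroups (task 2560, for helper459)

* `nfix_psu_two'` : `n ≥ 3`: `x` of prime order `p ≥ 5` with `¬ FixR 2 x`: `NS x` (with the induction hypothesis);
* `nfix_psu_two` : `n ≥ 4`.
-/

set_option autoImplicit false
set_option linter.unusedSectionVars false

namespace Cfsg.Agent.H880.Inv

open Matrix Subgroup Module Cfsg Cfsg.Agent.H459.Rad Cfsg.Agent.H459.Iface Cfsg.Agent.H459.Inv Cfsg.Agent.H880.Cl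
open Cfsg.Agent.LieClassical.HermBasic Cfsg.Agent.LieClassical.HermSiegel
open Cfsg.Agent.ClassicalGeometry.PSUAutBasic Cfsg.Agent.ClassicalGeometry.HermOrtho
open Cfsg.Agent.ClassicalGeometry.PSUAutCount (toAut gm gm_mul gm_one gm_mul_inv gm_inv_mul semiConj guConj act_guConj
  herm_gm gm_inv_mulVec gm_mulVec_inv herm_map gm_inj sc gm_sc_mul toAut_sc_mul eq_of_toAut_eq)

universe u

/-- the order of `PSU_n(q)`, `q` even, is even -/
theorem two_dvd_card {F : Type*} [Field F] [Fintype F] [CharP F 2] {q n : ℕ} (hF : Fintype.card F = q ^ 2)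
    (hn : 3 ≤ n) : 2 ∣ Nat.card (PSU n F q) := by
  have : Fact (Nat.Prime 2) := ⟨Nat.prime_two⟩
  obtain ⟨u, hu0, huu⟩ := H880.Tor.exists_sing_top (F := F) (m := n) hF (by omega)
  obtain ⟨μ, hμ0, hμ⟩ := exists_trace_zero_ne hF
  obtain ⟨k, hk⟩ := siegel_pow_prime_pow hF 2 (isSiegel_zero huu hμ)
  have hk' : transv hF u huu μ hμ ^ 2 ^ k = 1 := hk
  by_contra hodd
  have h1 : pr n F q (transv hF u huu μ hμ) = 1 := by
    have h2 : (pr n F q (transv hF u huu μ hμ)) ^ 2 ^ k = 1 := by rw [← map_pow, hk', map_one]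
    have h3 : (pr n F q (transv hF u huu μ hμ)) ^ Nat.card (PSU n F q) = 1 := pow_card_eq_one'
    have h4 := pow_gcd_eq_one.2 ⟨h2, h3⟩
    have h5 : Nat.Coprime (2 ^ k) (Nat.card (PSU n F q)) :=
      Nat.Coprime.pow_left _ ((Nat.Prime.coprime_iff_not_dvd Nat.prime_two).2 hodd)
    rwa [h5, pow_one] at h4
  exact transv_ne_one hF huu hu0 hμ0 hμ (eq_one_of_pr hF hn hk' h1)

variable {F : Type} [Field F] [Fintype F] [CharP F 2] {q n : ℕ}

/-- **Reducible automorphisms.** -/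
theorem irr_or_ns (hF : Fintype.card F = q ^ 2) (hn : 3 ≤ n) {p : ℕ} (hp : p.Prime) (hp5 : 5 ≤ p) {A : GU n F q}
    (hx : (toAut A 1 : MulAut (PSU n F q)) ^ p = 1) (hI : IH.{0} p (Nat.card (PSU n F q)))
    (hfix : ¬ FixR 2 (toAut A 1 : MulAut (PSU n F q)))
    (h : 4 ≤ q ∨ ∃ d : F, d * d ^ q = 1 ∧ gm A ^ p = d ^ p • (1 : Matrix (Fin n) (Fin n) F)) :
    NS (toAut A 1 : MulAut (PSU n F q)) ∨
      ∀ W : Submodule F (Fin n → F), (∀ w ∈ W, gm A *ᵥ w ∈ W) → W = ⊥ ∨ W = ⊤ := by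
  have : Fact (Nat.Prime 2) := ⟨Nat.prime_two⟩
  by_cases hirr : ∀ W : Submodule F (Fin n → F), (∀ w ∈ W, gm A *ᵥ w ∈ W) → W = ⊥ ∨ W = ⊤
  · exact Or.inr hirr
  left
  push Not at hirr
  obtain ⟨U, hAU, hU0, hU1⟩ := hirr
  by_cases hR : U ⊓ hermPerp q (U : Set (Fin n → F)) = ⊥
  · -- `U` non-degenerate
    have hUn : ∀ u ∈ U, (∀ v ∈ U, hermForm n F q u v = 0) → u = 0 := by
      intro u hu huv
      have h1 : u ∈ U ⊓ hermPerp q (U : Set (Fin n → F)) := ⟨hu, huv⟩
      rw [hR] at h1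
      exact (Submodule.mem_bot F).1 h1
    have hdim := finrank_hermPerp_of_nondeg hF U hUn
    have hU0' : 0 < finrank F U := by
      rw [Nat.pos_iff_ne_zero, Ne, Submodule.finrank_eq_zero]
      exact hU0
    have hU1' : finrank F U < n := by
      have h1 := Submodule.finrank_lt hU1
      rwa [finrank_fin_fun] at h1
    -- the main case
    have main : ∀ W : Submodule F (Fin n → F), (∀ u ∈ W, (∀ v ∈ W, hermForm n F q u v = 0) → u = 0) →
        (∀ w ∈ W, gm A *ᵥ w ∈ W) → 2 ≤ finrank F W → finrank F W < n →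
        NS (toAut A 1 : MulAut (PSU n F q)) := by
      intro W hW hAW h2 hlt
      obtain ⟨u, huW, hu0, huu⟩ := exists_sing_vec hF hW h2
      have hns : ∀ c : F, gm A *ᵥ u ≠ c • u := fun c hc => hfix (fixR_vec hF (by omega) hu0 huu hc)
      obtain ⟨m, hm⟩ : ∃ m, finrank F W = m := ⟨_, rfl⟩
      rw [hm] at h2 hlt
      have hq2 := two_le hF
      by_cases h3 : 3 ≤ m ∧ ¬ (m = 3 ∧ q = 2)
      · exact ns_nondeg hF (by omega) hp hx hI hW hAW hm h2 hlt (GenPsu.quasi hF h3.1 h3.2) (odd_center hF h3.1)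
          huW hu0 huu hns
      by_cases h4 : 4 ≤ q
      · have hm2 : m = 2 := by omega
        subst hm2
        exact ns_nondeg hF (by omega) hp hx hI hW hAW hm h2 hlt (quasi_two hF h4) (odd_center_two hF)
          huW hu0 huu hns
      exfalso
      obtain ⟨d, hd, hdA⟩ := h.resolve_left h4
      have hcount := S0285.result hF m
      have hsmall : (m = 3 ∧ q = 2) ∨ (m = 2 ∧ q = 2) ∨ (m = 2 ∧ q = 3) := by omega
      apply hfix
      rcases hsmall with ⟨rfl, rfl⟩ | ⟨rfl, rfl⟩ | ⟨rfl, rfl⟩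
      · refine fixR_small hF (by omega) hp hd hdA hW hAW hm (N := 27) (by rw [hcount]; rfl) ?_
        intro hd
        have h5 : p ∣ 3 ^ 3 := hd
        have h6 := hp.dvd_of_dvd_pow h5
        have h7 := Nat.le_of_dvd (by norm_num) h6
        omega
      · refine fixR_small hF (by omega) hp hd hdA hW hAW hm (N := 9) (by rw [hcount]; rfl) ?_
        intro hd
        have h5 : p ∣ 3 ^ 2 := hd
        have h6 := hp.dvd_of_dvd_pow h5
        have h7 := Nat.le_of_dvd (by norm_num) h6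
        omega
      · refine fixR_small hF (by omega) hp hd hdA hW hAW hm (N := 32) (by rw [hcount]; rfl) ?_
        intro hd
        have h5 : p ∣ 2 ^ 5 := hd
        have h6 := hp.dvd_of_dvd_pow h5
        have h7 := Nat.le_of_dvd (by norm_num) h6
        omega
    by_cases h2 : 2 ≤ finrank F U
    · exact main U hUn hAU h2 hU1'
    · exact main _ (hermPerp_nondeg hF U hUn) (perp_inv hAU) (by omega) (by omega)
  · exfalso
    apply hfix
    refine fixR_sing hF (by omega) (U := U ⊓ hermPerp q (U : Set (Fin n → F))) ?_ hR ?_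
    · intro u hu v hv
      exact hu.2 v hv.1
    · intro u hu
      exact ⟨hAU u hu.1, perp_inv hAU u hu.2⟩

/-- **The row `PSU_n(q)`, `n ≥ 3`, `q` even.** -/
theorem nfix_PSU_two {p : ℕ} [hp : Fact p.Prime]
    (hF : Fintype.card F = q ^ 2) (hn : 3 ≤ n) (h32 : ¬ (n = 3 ∧ q = 2)) (hp5 : 5 ≤ p)
    (hI : IH.{0} p (Nat.card (PSU n F q)))
    (x : MulAut (PSU n F q)) (hx : orderOf x = p) (hfix : ¬ FixR 2 x) : NS x := by
  have : Fact (Nat.Prime 2) := ⟨Nat.prime_two⟩
  have hq2 := two_le hF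
  obtain ⟨A, ρ, rfl⟩ := ClassicalGeometry.PSUAutMain.exists_toAut hF (by omega : 3 ≤ n) h32 x
  have hpow : toAut A ρ ^ p = 1 := by rw [← hx, pow_orderOf_eq_one]
  by_cases hρ : ρ = 1
  · subst hρ
    obtain ⟨-, c, hc1, hc⟩ := CpAutU.Desc.exists_scalar hF (by omega : 3 ≤ n) hpow
    have hgm : gm A ^ p = c • (1 : Matrix (Fin n) (Fin n) F) := by
      rw [← gm_pow]
      have h1 : ∀ k : ℕ, ∀ v, (CpAut.Psl.perm (A : GL (Fin n) F) 1 ^ k) v = gm (A ^ k) *ᵥ v := by
        intro k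
        induction k with
        | zero => intro v; rw [pow_zero, pow_zero, gm_one, one_mulVec]; rfl
        | succ k ih =>
          intro v
          rw [pow_succ, Equiv.Perm.mul_apply, ih, pow_succ, gm_mul, ← mulVec_mulVec]
          rfl
      apply Matrix.ext_of_mulVec_single
      intro i
      rw [← h1, hc, Matrix.smul_mulVec, one_mulVec]
    rcases exists_root_or hF hp.out hc1 with ⟨d, hd, hdc⟩ | hpq
    · have hgm' : gm A ^ p = d ^ p • (1 : Matrix (Fin n) (Fin n) F) := by rw [hdc, hgm]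
      rcases irr_or_ns hF hn hp.out hp5 hpow hI hfix (Or.inr ⟨d, hd, hgm'⟩) with h | h
      · exact h
      · exact ns_of_irr (r := 2) hF hn h32 (by omega) (by omega) (two_dvd_card hF (by omega)) hd hgm' h
    · have hq4 : 4 ≤ q := by
        have h1 := Nat.le_of_dvd (by omega) hpq
        omega
      rcases irr_or_ns hF hn hp.out hp5 hpow hI hfix (Or.inl hq4) with h | h
      · exact h
      · exact ns_kummer hF (by omega) hp5 hpq hgm h
  · exact absurd (fixR_field hF (by omega) hp.out (by omega) hρ hpow) hfix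

/-- **The row `PSU_n(q)`, `n ≥ 3`, `q` even, up to isomorphism.** -/
theorem nfix_psu_two' {K : Type u} [Group K] [Finite K] {p : ℕ} [Fact p.Prime]
    (hF : Fintype.card F = q ^ 2) (hn : 3 ≤ n) (h32 : ¬ (n = 3 ∧ q = 2)) (e : Nonempty (K ≃* PSU n F q)) (hp5 : 5 ≤ p)
    (hI : IH.{u} p (Nat.card K)) : ∀ x : MulAut K, orderOf x = p → ¬ FixR 2 x → NS x := by
  obtain ⟨e⟩ := e
  intro x hx hfix
  apply ns_of_tr e
  refine nfix_PSU_two hF hn h32 hp5 ?_ _ (by rw [orderOf_tr, hx]) ?_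
  · rw [← Nat.card_congr e.toEquiv]
    exact ih_down hI
  · intro h
    exact hfix (FixR.of_tr e h)

/-- **The row `PSU_n(q)`, `n ≥ 4`, `q` even, up to isomorphism.** -/
theorem nfix_psu_two {K : Type u} [Group K] [Finite K] {p : ℕ} [Fact p.Prime]
    (hF : Fintype.card F = q ^ 2) (hn : 4 ≤ n) (e : Nonempty (K ≃* PSU n F q)) (hp5 : 5 ≤ p)
    (hI : IH.{u} p (Nat.card K)) : ∀ x : MulAut K, orderOf x = p → ¬ FixR 2 x → NS x :=
  nfix_psu_two' hF (by omega) (by omega) e hp5 hI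

end Cfsg.Agent.H880.Inv
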