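import Cfsg.Agent.H880.Inv.OddIdx
import Cfsg.Agent.H880.Inv.Nondeg
import Cfsg.Agent.H880.ClPsuD
import Cfsg.Agent.H880.TorF

/-!
# S3830, the row `PSU_n(q)`: irreducible elements of order `p` (for helper459)

* `exists_irr_lift` : `A ∈ GU_n(q)` irreducible, `A ^ p` the `p`-th power of a scalar of norm one: `toAut A 1` is the
  inner automorphism of the image of an irreducible `T ∈ SU_n(q)` of order `p`, the Sylow `p`-subgroups are cyclic;
* `not_inverse` : `T` is not conjugate to its inverse (even modulo scalars) if `p ≠ r`;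
* `ns_of_irr` : `NS (toAut A 1)`.
-/

set_option autoImplicit false
set_option linter.unusedSectionVars false

namespace Cfsg.Agent.H880.Inv

open Matrix Subgroup Module Cfsg Cfsg.Agent.H459.Rad Cfsg.Agent.H459.Iface Cfsg.Agent.H459.Inv Cfsg.Agent.H880.Cl
open Cfsg.Agent.LieClassical.HermBasic Cfsg.Agent.LieClassical.HermSiegel
open Cfsg.Agent.ClassicalGeometry.PSUAutBasic Cfsg.Agent.ClassicalGeometry.HermOrtho
open Cfsg.Agent.ClassicalGeometry.PSUAutCount (toAut gm gm_mul gm_one gm_mul_inv gm_inv_mul semiConj guConj act_guConj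
  herm_gm gm_inv_mulVec gm_mulVec_inv herm_map gm_inj sc gm_sc_mul toAut_sc_mul)
open Cfsg.Agent.H880.Tor (Irr schur conj_root card_le_of_roots center_scalar exists_sing_top card_dvd_ne card_dvd_norm)

section Lift

variable {F : Type*} [Field F] [Fintype F] {q n : ℕ}

/-- **Irreducible with `A ^ p = d ^ p`: an irreducible element of order `p`, cyclic Sylow subgroups.** -/
theorem exists_irr_lift (hF : Fintype.card F = q ^ 2) (hn : 3 ≤ n) {p : ℕ} [hp : Fact p.Prime] {A : GU n F q} {d : F}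
    (hd : d * d ^ q = 1) (hA : gm A ^ p = d ^ p • (1 : Matrix (Fin n) (Fin n) F))
    (hs : ∀ W : Submodule F (Fin n → F), (∀ w ∈ W, gm A *ᵥ w ∈ W) → W = ⊥ ∨ W = ⊤) :
    ∃ g : SU n F q, orderOf g = p ∧ orderOf (pr n F q g) = p ∧ Irr (toEnd n F q g) ∧
      (toAut A 1 : MulAut (PSU n F q)) = MulAut.conj (pr n F q g) ∧
      ∀ P : Sylow p (PSU n F q), IsCyclic (P : Subgroup (PSU n F q)) := by
  classical
  have hd0 : d ≠ 0 := by
    rintro rfl
    rw [zero_mul] at hd
    exact zero_ne_one hd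
  have hdi : d⁻¹ * (d⁻¹) ^ q = 1 := by rw [inv_pow, ← mul_inv, hd, inv_one]
  obtain ⟨B, hB⟩ : ∃ B : GU n F q, B = sc n ⟨d⁻¹, hdi⟩ * A := ⟨_, rfl⟩
  have hgB : gm B = d⁻¹ • gm A := by rw [hB, gm_sc_mul]
  have hBp : (gm B) ^ p = 1 := by
    rw [hgB, smul_pow, hA, smul_smul, ← mul_pow, inv_mul_cancel₀ hd0, one_pow, one_smul]
  have hirr : ∀ W : Submodule F (Fin n → F), (∀ w ∈ W, gm B *ᵥ w ∈ W) → W = ⊥ ∨ W = ⊤ := by
    intro W hW
    apply hs W
    intro w hw
    have h1 := W.smul_mem d (hW w hw)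
    rwa [hgB, smul_mulVec, smul_smul, mul_inv_cancel₀ hd0, one_smul] at h1
  have : Nonempty (Fin n) := ⟨⟨0, by omega⟩⟩
  set T : Module.End F (Fin n → F) := Matrix.mulVecLin (gm B) with hT
  have hTs : ∀ W : Submodule F (Fin n → F), (∀ w ∈ W, T w ∈ W) → W = ⊥ ∨ W = ⊤ := hirr
  have hdeg := H469.IrrCyc.finrank_eq T hTs
  have hmin := H469.IrrCyc.minpoly_irreducible T hTs
  rw [finrank_fin_fun] at hdeg
  have hTp : T ^ p = 1 := by
    have h1 : ∀ k : ℕ, T ^ k = Matrix.mulVecLin (gm B ^ k) := by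
      intro k
      induction k with
      | zero => rw [pow_zero, pow_zero, Matrix.mulVecLin_one]; rfl
      | succ k ih => rw [pow_succ, pow_succ, Matrix.mulVecLin_mul, ih]; rfl
    rw [h1, hBp, Matrix.mulVecLin_one]
    rfl
  have hdvd : minpoly F T ∣ (Polynomial.X ^ p - 1 : Polynomial F) := by
    apply minpoly.dvd
    rw [map_sub, map_pow, Polynomial.aeval_X, map_one, hTp, sub_self]
  -- `p` does not divide `q ^ 2 - 1`
  have hpq : ¬ p ∣ Nat.card Fˣ := by
    intro h
    obtain ⟨ζ, hζ⟩ := exists_prime_orderOf_dvd_card' (G := Fˣ) p h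
    have hprim : IsPrimitiveRoot (ζ : F) p := by
      rw [← hζ]
      exact (IsPrimitiveRoot.orderOf ζ).map_of_injective (f := Units.coeHom F) Units.val_injective
    rw [Polynomial.X_pow_sub_one_eq_prod hp.out.pos hprim] at hdvd
    obtain ⟨a, -, ha⟩ := (Prime.dvd_finsetProd_iff hmin.prime _).1 hdvd
    have h2 := Polynomial.natDegree_le_of_dvd ha (Polynomial.X_sub_C_ne_zero a)
    rw [Polynomial.natDegree_X_sub_C] at h2
    omega
  have hdet : (gm B).det = 1 := by
    have h1 : (gm B).det ^ p = 1 := by rw [← det_pow, hBp, det_one]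
    have h0 : (gm B).det ≠ 0 := by
      intro h
      rw [h, zero_pow hp.out.ne_zero] at h1
      exact zero_ne_one h1
    have h2 : (Units.mk0 _ h0) ^ p = 1 := Units.ext (by rw [Units.val_pow_eq_pow_val, Units.val_mk0, h1]; rfl)
    have h3 : (Units.mk0 _ h0) ^ Nat.card Fˣ = 1 := pow_card_eq_one'
    have h4 := pow_gcd_eq_one.2 ⟨h2, h3⟩
    rw [(Nat.Prime.coprime_iff_not_dvd hp.out).2 hpq, pow_one] at h4
    exact congrArg Units.val h4
  let g : SU n F q := mkSU (gm B) hdet (fun u v => herm_gm _ u v)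
  have hgm : mat g = gm B := rfl
  have hAB : (toAut A 1 : MulAut (PSU n F q)) = toAut B 1 := by rw [hB, toAut_sc_mul]
  have hgp : g ^ p = 1 := by
    apply mat_injective
    have h1 : ∀ k : ℕ, mat (g ^ k) = gm B ^ k := by
      intro k
      induction k with
      | zero => rw [pow_zero, pow_zero, mat_one]
      | succ k ih => rw [pow_succ, pow_succ, mat_mul, ih, hgm]
    rw [h1, hBp, mat_one]
  have hns : ∀ c : F, gm B *ᵥ Pi.single (⟨0, by omega⟩ : Fin n) 1 ≠ c • Pi.single (⟨0, by omega⟩ : Fin n) 1 := by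
    intro c h1
    have hw0 : (Pi.single (⟨0, by omega⟩ : Fin n) 1 : Fin n → F) ≠ 0 := by
      intro h
      have h3 := congrFun h ⟨0, by omega⟩
      rw [Pi.single_eq_same] at h3
      exact one_ne_zero h3
    rcases hirr (Submodule.span F {Pi.single ⟨0, by omega⟩ 1}) (fun w hw => by
      obtain ⟨k, rfl⟩ := Submodule.mem_span_singleton.mp hw
      rw [mulVec_smul, h1, smul_smul]
      exact Submodule.smul_mem _ _ (Submodule.mem_span_singleton_self _)) with h2 | h2
    · rw [Submodule.span_singleton_eq_bot] at h2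
      exact hw0 h2
    · have h3 := finrank_span_singleton (K := F) hw0
      rw [h2, finrank_top, finrank_fin_fun] at h3
      omega
  have hpr : pr n F q g ≠ 1 := by
    intro h
    rw [pr_eq_one_iff] at h
    obtain ⟨c, -, -, hc⟩ := exists_scalar_of_mem_center hF hn h
    exact hns c (by rw [← hgm, ← act_def]; exact hc _)
  have hg1 : g ≠ 1 := by
    intro h
    exact hpr (by rw [h, map_one])
  have hord : orderOf g = p := orderOf_eq_prime hgp hg1
  have hord' : orderOf (pr n F q g) = p := orderOf_eq_prime (by rw [← map_pow, hgp, map_one]) hpr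
  refine ⟨g, hord, hord', hirr, ?_, ?_⟩
  · rw [hAB]
    exact Cfsg.Agent.Schreier.PSU.f₁_eq_conj B g rfl
  · intro P
    obtain ⟨Q, rfl⟩ := Sylow.mapSurjective_surjective (pr_surjective (n := n) (F := F) (q := q)) p P
    have hQ : IsCyclic (Q : Subgroup (SU n F q)) := sylow_cyclic_of_irr (toEnd n F q) toEnd_injective hord hirr Q
    rw [Sylow.coe_mapSurjective]
    exact isCyclic_of_surjective ((pr n F q).subgroupMap (Q : Subgroup (SU n F q)))
      ((pr n F q).subgroupMap_surjective _)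

end Lift

section Irr

variable {F : Type*} [Field F] [Fintype F] {q m : ℕ}

/-- the order of `q ^ 2` modulo `p` -/
theorem not_dvd (hF : Fintype.card F = q ^ 2) (hm : 2 ≤ m) {r : ℕ} [Fact r.Prime] [CharP F r] {p : ℕ}
    (hp : p.Prime) (hrp : r ≠ p) {T : SU m F q} (hT : orderOf T = p)
    (hs : Irr (toEnd m F q T)) : ∀ k, 0 < k → k < m → ¬ p ∣ (q ^ 2) ^ k - 1 := by
  have hpf := Fact.mk hp
  have hne : Nonempty (Fin m) := ⟨⟨0, by omega⟩⟩
  have hTp : T ^ p = 1 := by rw [← hT, pow_orderOf_eq_one]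
  have h1 := H877.RadPSL.ord_of_irr (F := F) (r := r) (p := p) hrp.symm (toEnd m F q T)
    (by rw [← map_pow, hTp, map_one]) (by
      intro h1
      have h2 : T = 1 := toEnd_injective (by rw [h1, map_one])
      rw [h2, orderOf_one] at hT
      exact hp.one_lt.ne hT) hs
  intro k hk hkm
  have h2 := h1 k hk (by rw [finrank_fin_fun]; exact hkm)
  rwa [Nat.card_eq_fintype_card, hF] at h2

theorem not_dvd_q (hF : Fintype.card F = q ^ 2) {r : ℕ} [Fact r.Prime] [CharP F r] {p : ℕ}
    (hp : p.Prime) (hrp : r ≠ p) : ¬ p ∣ q := by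
  intro hd
  have hr : r.Prime := Fact.out
  obtain ⟨f, -, hf⟩ := FiniteField.card F r
  have h1 : p ∣ r ^ (f : ℕ) := by rw [← hf, hF]; exact dvd_pow hd two_ne_zero
  exact hrp ((Nat.prime_dvd_prime_iff_eq hp hr).1 (hp.dvd_of_dvd_pow h1)).symm

/-- **The degree is odd.** -/
theorem odd_dvd (hF : Fintype.card F = q ^ 2) (hm : 2 ≤ m) {r : ℕ} [Fact r.Prime] [CharP F r] {p : ℕ}
    (hp : p.Prime) (hrp : r ≠ p) {T : SU m F q} (hT : orderOf T = p) (hs : Irr (toEnd m F q T)) :
    ¬ Even m ∧ p ∣ q ^ m + 1 := by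
  have hq2 := two_le hF
  have hpC : p ∣ Nat.card (centralizer ({T} : Set (SU m F q))) := by
    have h1 : zpowers T ≤ centralizer ({T} : Set (SU m F q)) := by
      rw [zpowers_le, mem_centralizer_singleton_iff]
    have h2 := Subgroup.card_dvd_of_le h1
    rwa [Nat.card_zpowers, hT] at h2
  have hcop : Nat.Coprime (Nat.card (centralizer ({T} : Set (SU m F q)))) q := by
    have h1 := card_dvd_ne hF hs
    have h2 : Nat.Coprime ((q ^ 2) ^ m - 1) (q ^ 2) := by
      have h3 : 1 ≤ (q ^ 2) ^ m := Nat.one_le_pow _ _ (by positivity)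
      have h4 : Nat.Coprime ((q ^ 2) ^ m - 1) ((q ^ 2) ^ m) := by
        obtain ⟨k, hk⟩ := Nat.exists_eq_add_of_le h3
        rw [hk, Nat.add_sub_cancel_left]
        rw [add_comm, Nat.coprime_self_add_right]
        exact Nat.coprime_one_right k
      exact h4.coprime_dvd_right (dvd_pow_self _ (by omega))
    exact (h2.coprime_dvd_left h1).coprime_dvd_right (dvd_pow_self q two_ne_zero)
  have hC := card_dvd_norm hs
  rw [LieClassical.HermCount.card_norm_one hF m] at hC
  by_cases hev : Even m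
  · exfalso
    rw [if_pos hev] at hC
    have h1 : Nat.card (centralizer ({T} : Set (SU m F q))) ∣ q ^ m - 1 :=
      (hcop.pow_right (m - 1)).dvd_of_dvd_mul_left hC
    obtain ⟨k, hk⟩ := hev
    refine not_dvd hF hm hp hrp hT hs k (by omega) (by omega) ?_
    rw [← pow_mul, two_mul, ← hk]
    exact hpC.trans h1
  · rw [if_neg hev] at hC
    have h1 : Nat.card (centralizer ({T} : Set (SU m F q))) ∣ q ^ m + 1 :=
      (hcop.pow_right (m - 1)).dvd_of_dvd_mul_left hC
    exact ⟨hev, hpC.trans h1⟩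

/-- central elements of order dividing `p` -/
theorem center_eq_one (hF : Fintype.card F = q ^ 2) (hm : 2 ≤ m) {r : ℕ} [Fact r.Prime] [CharP F r] {p : ℕ}
    (hp : p.Prime) (hrp : r ≠ p) {T : SU m F q} (hT : orderOf T = p)
    (hs : Irr (toEnd m F q T)) {z : SU m F q} (hz : z ∈ center (SU m F q)) (hzp : z ^ p = 1) : z = 1 := by
  classical
  obtain ⟨c, hc0, hc⟩ := center_scalar hF hm hs hz
  have hck : ∀ k : ℕ, ∀ v, act (z ^ k) v = c ^ k • v := by
    intro k
    induction k with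
    | zero => intro v; rw [pow_zero, act_one, pow_zero, one_smul]
    | succ k ih => intro v; rw [pow_succ, act_mul, hc, act_smul, ih, smul_smul, pow_succ, mul_comm]
  obtain ⟨u, hu0, -⟩ := exists_sing_top (m := m) hF hm
  have h1 : c ^ p = 1 := by
    have h2 := hck p u
    rw [hzp, act_one] at h2
    have h3 : (c ^ p - 1) • u = 0 := by rw [sub_smul, one_smul, ← h2, sub_self]
    rcases smul_eq_zero.1 h3 with h4 | h4
    · exact sub_eq_zero.1 h4
    · exact absurd h4 hu0
  have hpq : ¬ p ∣ Nat.card Fˣ := by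
    have h2 := not_dvd hF hm hp hrp hT hs 1 one_pos (by omega)
    rwa [pow_one, ← hF, ← Fintype.card_units, ← Nat.card_eq_fintype_card] at h2
  have h2 : (Units.mk0 c hc0) ^ p = 1 := Units.ext (by rw [Units.val_pow_eq_pow_val, Units.val_mk0, h1]; rfl)
  have h3 : (Units.mk0 c hc0) ^ Nat.card Fˣ = 1 := pow_card_eq_one'
  have h4 := pow_gcd_eq_one.2 ⟨h2, h3⟩
  rw [(Nat.Prime.coprime_iff_not_dvd hp).2 hpq, pow_one] at h4
  have h5 : c = 1 := congrArg Units.val h4
  apply ext_act
  intro v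
  rw [hc, h5, one_smul, act_one]

theorem eq_pow_of_pr (hF : Fintype.card F = q ^ 2) (hm : 2 ≤ m) {r : ℕ} [Fact r.Prime] [CharP F r] {p : ℕ}
    (hp : p.Prime) (hrp : r ≠ p) {T : SU m F q} (hT : orderOf T = p)
    (hs : Irr (toEnd m F q T)) {x : SU m F q} {j : ℕ} (hx : pr m F q (x * T * x⁻¹) = pr m F q (T ^ j)) :
    x * T * x⁻¹ = T ^ j := by
  have hTp : T ^ p = 1 := by rw [← hT, pow_orderOf_eq_one]
  obtain ⟨z, hz, hxz⟩ := exists_center_mul hx.symm
  have hc : Commute (T ^ j) z := mem_center_iff.1 hz _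
  have h1 : z ^ p = 1 := by
    have h2 : (x * T * x⁻¹) ^ p = 1 := by rw [conj_pow, hTp, mul_one, mul_inv_cancel]
    rw [hxz, hc.mul_pow, ← pow_mul, mul_comm, pow_mul, hTp, one_pow, one_mul] at h2
    exact h2
  rw [hxz, center_eq_one hF hm hp hrp hT hs hz h1, mul_one]

/-- Frobenius powers are roots of the minimal polynomial -/
theorem frob_root {V : Type*} [AddCommGroup V] [Module F V] (T : Module.End F V) (i : ℕ) :
    Polynomial.aeval (T ^ (Fintype.card F) ^ i) (minpoly F T) = 0 := by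
  have h1 : ∀ (f : Polynomial F) (i : ℕ), Polynomial.aeval (T ^ (Fintype.card F) ^ i) f =
      (Polynomial.aeval T f) ^ (Fintype.card F) ^ i := by
    intro f i
    have h2 : Polynomial.expand F ((Fintype.card F) ^ i) f = f ^ (Fintype.card F) ^ i := by
      induction i with
      | zero => rw [pow_zero, Polynomial.expand_one, pow_one]
      | succ i ih => rw [pow_succ, Polynomial.expand_mul, FiniteField.expand_card, map_pow, ih, ← pow_mul]
    rw [← Polynomial.expand_aeval, h2, map_pow]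
  rw [h1, minpoly.aeval, zero_pow (pow_ne_zero _ Fintype.card_ne_zero)]

/-- **`T` is not conjugate to its inverse.** -/
theorem not_inverse (hF : Fintype.card F = q ^ 2) (hm : 2 ≤ m) {r : ℕ} [Fact r.Prime] [CharP F r] {p : ℕ}
    (hp : p.Prime) (hp2 : p ≠ 2) (hrp : r ≠ p) {T : SU m F q} (hT : orderOf T = p)
    (hs : Irr (toEnd m F q T)) (w : PSU m F q) : w * pr m F q T * w⁻¹ ≠ (pr m F q T)⁻¹ := by
  classical
  intro h
  have hTp : T ^ p = 1 := by rw [← hT, pow_orderOf_eq_one]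
  have hpp := hp.pos
  have h1p := hp.one_lt
  obtain ⟨x, rfl⟩ := pr_surjective w
  have hTi : T⁻¹ = T ^ (p - 1) := by
    rw [inv_eq_iff_mul_eq_one, ← pow_succ', Nat.sub_add_cancel hpp, hTp]
  have h1 : x * T * x⁻¹ = T ^ (p - 1) := by
    apply eq_pow_of_pr hF hm hp hrp hT hs
    rw [map_mul, map_mul, map_inv, h, ← hTi, map_inv]
  have hroot : Polynomial.aeval (toEnd m F q T ^ (p - 1)) (minpoly F (toEnd m F q T)) = 0 := by
    apply conj_root (x := toEnd m F q x) (y := toEnd m F q x⁻¹)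
    · rw [← map_mul, ← map_pow, ← map_mul, ← h1, inv_mul_cancel_right]
    · rw [← map_mul, mul_inv_cancel, map_one]
  obtain ⟨hodd, -⟩ := odd_dvd hF hm hp hrp hT hs
  have hnd := not_dvd hF hm hp hrp hT hs
  have hpq : ¬ p ∣ q := not_dvd_q hF hp hrp
  have hcop : Nat.Coprime p (q ^ 2) := (Nat.Prime.coprime_iff_not_dvd hp).2 fun h2 => hpq (hp.dvd_of_dvd_pow h2)
  have hq2 := two_le hF
  -- congruences between the powers of `q ^ 2`
  have hmod : ∀ i j : ℕ, i < j → (q ^ 2) ^ i % p = (q ^ 2) ^ j % p → p ∣ (q ^ 2) ^ (j - i) - 1 := by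
    intro i j hij he
    have h2 : (q ^ 2) ^ i ≡ (q ^ 2) ^ j [MOD p] := he
    have h3 := (Nat.modEq_iff_dvd' (Nat.pow_le_pow_right (by positivity) hij.le)).1 h2
    have h4 : (q ^ 2) ^ j - (q ^ 2) ^ i = (q ^ 2) ^ i * ((q ^ 2) ^ (j - i) - 1) := by
      rw [Nat.mul_sub, mul_one, ← pow_add, Nat.add_sub_cancel' hij.le]
    rw [h4] at h3
    exact (hcop.pow_right i).dvd_of_dvd_mul_left h3
  set J : Finset ℕ := insert (p - 1) ((Finset.range m).image fun i => (q ^ 2) ^ i % p) with hJ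
  have hinj : Set.InjOn (fun i => (q ^ 2) ^ i % p) (Finset.range m : Set ℕ) := by
    intro i hi j hj hij
    rw [Finset.coe_range, Set.mem_Iio] at hi hj
    rcases lt_trichotomy i j with h2 | h2 | h2
    · exact absurd (hmod i j h2 hij) (hnd _ (by omega) (by omega))
    · exact h2
    · exact absurd (hmod j i h2 hij.symm) (hnd _ (by omega) (by omega))
  have hJp : ∀ j ∈ J, j < p := by
    intro j hj
    rw [hJ, Finset.mem_insert, Finset.mem_image] at hj
    rcases hj with rfl | ⟨i, -, rfl⟩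
    · omega
    · exact Nat.mod_lt _ hpp
  have hJc : J.card ≤ m := by
    have hne : Nonempty (Fin m) := ⟨⟨0, by omega⟩⟩
    have h1 := card_le_of_roots hs J (by
      intro i hi j hj hij
      rw [← map_pow, ← map_pow] at hij
      exact pow_injOn_Iio_orderOf (by rw [hT]; exact hJp i hi) (by rw [hT]; exact hJp j hj) (toEnd_injective hij)) (by
      intro j hj
      rw [hJ, Finset.mem_insert, Finset.mem_image] at hj
      rcases hj with rfl | ⟨i, -, rfl⟩
      · exact hroot
      · have h2 : toEnd m F q T ^ ((q ^ 2) ^ i % p) = toEnd m F q T ^ (q ^ 2) ^ i := by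
          rw [← map_pow, ← map_pow, ← hT, pow_mod_orderOf]
        rw [h2, ← hF]
        exact frob_root _ i)
    rwa [finrank_fin_fun] at h1
  have hmem : p - 1 ∈ (Finset.range m).image fun i => (q ^ 2) ^ i % p := by
    by_contra hcon
    rw [hJ, Finset.card_insert_of_notMem hcon, Finset.card_image_of_injOn hinj, Finset.card_range] at hJc
    omega
  obtain ⟨i, hi, hie⟩ := Finset.mem_image.1 hmem
  rw [Finset.mem_range] at hi
  -- `q ^ (2 i) ≡ -1`
  have h2 : (q ^ 2) ^ i + 1 ≡ 0 [MOD p] := by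
    have h3 : (q ^ 2) ^ i ≡ p - 1 [MOD p] := by
      show (q ^ 2) ^ i % p = (p - 1) % p
      rw [Nat.mod_eq_of_lt (by omega : p - 1 < p)]
      exact hie
    have h4 := h3.add_right 1
    rw [Nat.sub_add_cancel hpp] at h4
    exact h4.trans (by show p % p = 0 % p; simp)
  have h3 : p ∣ (q ^ 2) ^ i + 1 := (Nat.modEq_zero_iff_dvd).1 h2
  have hi0 : 0 < i := by
    rcases Nat.eq_zero_or_pos i with rfl | h4
    · rw [pow_zero] at h3
      have := Nat.le_of_dvd (by norm_num) h3
      omega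
    · exact h4
  have h4 : p ∣ (q ^ 2) ^ (2 * i) - 1 := by
    have h5 : (q ^ 2) ^ (2 * i) - 1 = ((q ^ 2) ^ i + 1) * ((q ^ 2) ^ i - 1) := by
      have h6 : 1 ≤ (q ^ 2) ^ i := Nat.one_le_pow _ _ (by positivity)
      obtain ⟨k, hk⟩ := Nat.exists_eq_add_of_le h6
      rw [two_mul, pow_add, hk, Nat.add_sub_cancel_left]
      have h7 : (1 + k) * (1 + k) = 1 + (1 + k + 1) * k := by ring
      rw [h7, Nat.add_sub_cancel_left]
    rw [h5]
    exact h3.mul_right _
  have h4' : (q ^ 2) ^ (0) % p = (q ^ 2) ^ (2 * i) % p := by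
    rw [pow_zero]
    have h6 : 1 ≤ (q ^ 2) ^ (2 * i) := Nat.one_le_pow _ _ (by positivity)
    exact (Nat.modEq_iff_dvd' h6).2 h4
  have h5 : m ≤ 2 * i := by
    by_contra h6
    exact hnd (2 * i) (by omega) (by omega) h4
  -- `q ^ (2 m) ≡ 1`
  have h6 : m < 2 * i := by
    rcases Nat.lt_or_eq_of_le h5 with h7 | h7
    · exact h7
    · exact absurd ⟨i, by omega⟩ hodd
  have h7 : p ∣ (q ^ 2) ^ m - 1 := by
    have h8 := (odd_dvd hF hm hp hrp hT hs).2
    have h9 : (q ^ 2) ^ m - 1 = (q ^ m + 1) * (q ^ m - 1) := by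
      have h6 : 1 ≤ q ^ m := Nat.one_le_pow _ _ (by positivity)
      obtain ⟨k, hk⟩ := Nat.exists_eq_add_of_le h6
      rw [← pow_mul, two_mul, pow_add, hk, Nat.add_sub_cancel_left]
      have h7 : (1 + k) * (1 + k) = 1 + (1 + k + 1) * k := by ring
      rw [h7, Nat.add_sub_cancel_left]
    rw [h9]
    exact h8.mul_right _
  have h8 : (q ^ 2) ^ m % p = (q ^ 2) ^ (2 * i) % p := by
    rw [← h4', pow_zero]
    have h9 : 1 ≤ (q ^ 2) ^ m := Nat.one_le_pow _ _ (by positivity)
    exact ((Nat.modEq_iff_dvd' h9).2 h7).symm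
  exact hnd (2 * i - m) (by omega) (by omega) (hmod m (2 * i) h6 h8)

end Irr

/-- **Irreducible automorphisms of order `p` with `A ^ p = d ^ p`.** -/
theorem ns_of_irr {F : Type} [Field F] [Fintype F] {q n : ℕ} (hF : Fintype.card F = q ^ 2) (hn : 3 ≤ n)
    (h32 : ¬ (n = 3 ∧ q = 2)) {r : ℕ} [Fact r.Prime] [CharP F r] {p : ℕ} [hp : Fact p.Prime] (hp2 : p ≠ 2)
    (hrp : r ≠ p) (h2 : 2 ∣ Nat.card (PSU n F q)) {A : GU n F q} {d : F}
    (hd : d * d ^ q = 1) (hA : gm A ^ p = d ^ p • (1 : Matrix (Fin n) (Fin n) F))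
    (hs : ∀ W : Submodule F (Fin n → F), (∀ w ∈ W, gm A *ᵥ w ∈ W) → W = ⊥ ∨ W = ⊤) :
    NS (toAut A 1 : MulAut (PSU n F q)) := by
  obtain ⟨g, hg, hg', hirr, hconj, hcyc⟩ := exists_irr_lift hF hn hd hA hs
  have hqs := GenPsu.quasi hF hn h32
  have hsim : IsSimpleGroup (PSU n F q) := hqs.2
  have hna : ¬ IsMulCommutative (PSU n F q) := by
    intro h
    have h3 : Group.IsSolvable (SU n F q ⧸ center (SU n F q)) :=
      Group.isSolvable_of_comm fun a b => h.is_comm.comm a b
    exact SignalizersComponents.Components.quasisimple_not_isSolvable hqs (isSolvable_of_quotient (center (SU n F q))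
      (Group.isSolvable_of_comm fun a b => mul_comm' a b) h3)
  rw [hconj]
  obtain ⟨P⟩ : Nonempty (Sylow p (PSU n F q)) := inferInstance
  exact ns_of_odd_index hna P (hcyc P) hp2 hg' h2
    (odd_relIndex hp.out hg' (not_inverse hF (by omega) hp.out hp2 hrp hg hirr))

end Cfsg.Agent.H880.Inv
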